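import Cfsg.Agent.S5522
import Cfsg.Agent.Lib.Compute.M24Fast

/-!
# Counting the elements of the Mathieu group `M11` by their orders

`countProd` counts the products of transversal elements of a stabilizer chain passing a Boolean test.
-/

set_option autoImplicit false

namespace Cfsg.Agent.Lib.M11Rec

open Cfsg Cfsg.Agent.Lib.Compute.Golay Cfsg.Agent.Lib.Compute.GolayFast Cfsg.Agent.Lib.Compute.M24
open scoped Classical

/-- The number of products of transversal elements passing a test. -/
def countProd : List Level → List ℕ → (List ℕ → Bool) → ℕ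
  | [], acc, Q => bif Q acc then 1 else 0
  | lv :: lvs, acc, Q => (lv.T.map (fun t => countProd lvs (mulL acc t) Q)).sum

variable {K : Subgroup P} {memK : List ℕ → Bool} {E : List ℕ}

/-- The set counted by `countProd`. -/
noncomputable def cntSet (K : Subgroup P) (F : List ℕ) (a : P) (Q : List ℕ → Bool) : Finset P :=
  Finset.univ.filter (fun g : P => g ∈ fixIn K F ∧ Q (toL ((a * g : P) : GolayPt → GolayPt)) = true)

theorem mem_cntSet {F : List ℕ} {a g : P} {Q : List ℕ → Bool} :
    g ∈ cntSet K F a Q ↔ g ∈ fixIn K F ∧ Q (toL ((a * g : P) : GolayPt → GolayPt)) = true := by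
  simp only [cntSet, Finset.mem_filter, Finset.mem_univ, true_and]

theorem chain_count_to (ctx : Ctx K memK E) (Fend : List ℕ) (hend : ∀ g ∈ fixIn K Fend, g = 1)
    (Q : List ℕ → Bool) (F : List ℕ) (lvs : List Level) (h : chainCheckTo memK E Fend F lvs = true)
    (a : P) : (cntSet K F a Q).card = countProd lvs (toL a) Q := by
  induction lvs generalizing F a with
  | nil =>
    simp only [chainCheckTo, beq_iff_eq] at h
    subst h
    simp only [countProd]
    have hone : ∀ g, g ∈ cntSet K F a Q ↔ g = 1 ∧ Q (toL a) = true := by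
      intro g
      rw [mem_cntSet]
      constructor
      · rintro ⟨h1, h2⟩
        have := hend g h1
        subst this
        rw [mul_one] at h2
        exact ⟨rfl, h2⟩
      · rintro ⟨rfl, h2⟩
        refine ⟨(fixIn K F).one_mem, ?_⟩
        rw [mul_one]
        exact h2
    cases hQ : Q (toL a) with
    | true =>
      have : cntSet K F a Q = {1} := by
        ext g
        rw [hone, hQ]
        simp
      rw [this]
      simp
    | false =>
      have : cntSet K F a Q = ∅ := by
        ext g
        rw [hone, hQ]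
        simp
      rw [this]
      simp
  | cons lv lvs ih =>
    simp only [chainCheckTo, Bool.and_eq_true] at h
    obtain ⟨h1, h2⟩ := h
    simp only [countProd]
    have hnd : (orbitL lv).Nodup := by
      have := h1
      simp only [levelCheck, Bool.and_eq_true, decide_eq_true_eq] at this
      exact this.2
    have hb24 : lv.b < 24 := by
      have := h1
      simp only [levelCheck, Bool.and_eq_true, Nat.blt_eq] at this
      exact this.1.1.1.1.2
    have hcard := Finset.card_eq_sum_card_fiberwise (s := cntSet K F a Q) (t := (orbitL lv).toFinset)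
      (f := fun g : P => ptIdx (g (idxPt lv.b))) (by
        intro g hg
        have hg' := (mem_cntSet.1 hg).1
        simpa using level_sub ctx h1 g hg')
    rw [hcard, List.sum_toFinset _ hnd, orbitL, List.map_map]
    congr 1
    apply List.map_congr_left
    intro L hL
    obtain ⟨hv, t, ht, hc⟩ := level_sup ctx h1 hL
    have hLt : L = toL t := toL_eq_of_codes hv hc
    have ht2 : ptIdx (t (idxPt lv.b)) = L.getD lv.b 0 := by
      rw [hc (idxPt lv.b), ptIdx_idxPt hb24, ptIdx_idxPt (getD_lt_of_validL hv _)]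
    simp only [Function.comp]
    rw [hLt, ← toL_mul, ← ih _ h2 (a * t), ← hLt]
    symm
    apply Finset.card_bij (fun g' _ => t * g')
    · intro g' hg'
      obtain ⟨hg1, hg2⟩ := mem_cntSet.1 hg'
      rw [Finset.mem_filter, mem_cntSet]
      have hg'F : g' ∈ fixIn K F := ⟨hg1.1, fun i hi => hg1.2 i (List.mem_cons_of_mem _ hi)⟩
      refine ⟨⟨(fixIn K F).mul_mem ht hg'F, ?_⟩, ?_⟩
      · rw [← mul_assoc]
        exact hg2
      · have h3 : g' (idxPt lv.b) = idxPt lv.b := hg1.2 _ (List.mem_cons_self)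
        rw [Equiv.Perm.mul_apply, h3, ht2]
    · intro x _ y _ hxy
      exact mul_left_cancel hxy
    · intro g hg
      obtain ⟨hg0, hg3⟩ := Finset.mem_filter.1 hg
      obtain ⟨hg1, hg2⟩ := mem_cntSet.1 hg0
      have ht3 : t (idxPt lv.b) = g (idxPt lv.b) := by
        apply ptIdx_injective
        rw [ht2, hg3]
      refine ⟨t⁻¹ * g, ?_, by group⟩
      rw [mem_cntSet]
      constructor
      · refine ⟨K.mul_mem (K.inv_mem ht.1) hg1.1, fun i hi => ?_⟩
        rcases List.mem_cons.1 hi with rfl | hi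
        · rw [Equiv.Perm.mul_apply, ← ht3]
          simp
        · have h1' := hg1.2 i hi
          have h2' := ht.2 i hi
          rw [Equiv.Perm.mul_apply, h1', Equiv.Perm.inv_eq_iff_eq, h2']
      · have : a * t * (t⁻¹ * g) = a * g := by group
        rw [this]
        exact hg2

/-- The version for all the elements. -/
theorem chain_count (ctx : Ctx K memK E) (Fend : List ℕ) (hend : ∀ g ∈ fixIn K Fend, g = 1)
    (Q : List ℕ → Bool) (F : List ℕ) (lvs : List Level) (h : chainCheckTo memK E Fend F lvs = true) :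
    (Finset.univ.filter (fun g : P => g ∈ fixIn K F ∧ Q (toL (g : GolayPt → GolayPt)) = true)).card =
      countProd lvs idL Q := by
  have h1 := chain_count_to ctx Fend hend Q F lvs h 1
  rw [show toL ((1 : P) : GolayPt → GolayPt) = idL from toL_one] at h1
  rw [← h1]
  congr 1

/-- Evaluate the argument. -/
def forceC (v : ℕ) (k : ℕ → ℕ) : ℕ :=
  match v with
  | 0 => k 0
  | m + 1 => k (m + 1)

theorem forceC_eq (v : ℕ) (k : ℕ → ℕ) : forceC v k = k v := by
  cases v <;> rfl

/-- The count on packed elements. -/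
def countProdP : List (List ℕ) → ℕ → (ℕ → Bool) → ℕ
  | [], acc, Q => bif Q acc then 1 else 0
  | T :: Ts, acc, Q => (T.map (fun t => forceC (mulP acc t) (fun acc' => countProdP Ts acc' Q))).sum

theorem sum_map_congr {α : Type*} (T : List α) (f g : α → ℕ) (h : ∀ t ∈ T, f t = g t) :
    (T.map f).sum = (T.map g).sum := by
  rw [List.map_congr_left h]

theorem countProdP_eq (lvs : List Level) (h : packOK lvs = true) (a : List ℕ) (ha : ∀ x ∈ a, x < 32) (Q : ℕ → Bool) :
    countProdP (packT lvs) (packL a) Q = countProd lvs a (fun L => Q (packL L)) := by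
  induction lvs generalizing a with
  | nil => rfl
  | cons lv lvs ih =>
    simp only [packOK, List.all_cons, Bool.and_eq_true] at h
    simp only [packT, List.map_cons, countProdP, countProd, List.map_map]
    apply sum_map_congr
    intro t ht
    have h1 := List.all_eq_true.1 h.1 t ht
    simp only [Bool.and_eq_true, beq_iff_eq, List.all_eq_true, Nat.blt_eq] at h1
    rw [Function.comp_apply, forceC_eq, mulP_pack ha h1.2 h1.1]
    exact ih h.2 _ (mulL_entries ha)

/-- The packed identity. -/
def idP : ℕ := 984818244535754528103549039458486304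

theorem packL_idL : packL idL = idP := by decide +kernel

/-- The order of an element of `M11`, from its packed table; `0` if it is none of the possible ones. -/
def ordP (x : ℕ) : ℕ :=
  bif Nat.beq x idP then 1 else
  forceC (mulP x x) fun x2 =>
  bif Nat.beq x2 idP then 2 else
  forceC (mulP x2 x) fun x3 =>
  bif Nat.beq x3 idP then 3 else
  forceC (mulP x2 x2) fun x4 =>
  bif Nat.beq x4 idP then 4 else
  forceC (mulP x4 x) fun x5 =>
  bif Nat.beq x5 idP then 5 else
  forceC (mulP x3 x3) fun x6 =>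
  bif Nat.beq x6 idP then 6 else
  forceC (mulP x4 x4) fun x8 =>
  bif Nat.beq x8 idP then 8 else
  forceC (mulP x8 x3) fun x11 =>
  bif Nat.beq x11 idP then 11 else 0

/-- The number of elements of `M11` with a given value of `ordP`. -/
def cntN (n : ℕ) : ℕ :=
  countProdP (packT Cfsg.Agent.S5522.m11sLevels) idP (fun x => Nat.beq (ordP x) n)

theorem m11s_packOK : packOK Cfsg.Agent.S5522.m11sLevels = true := by decide +kernel

theorem count1 : cntN 1 = 1 := by decide +kernel
theorem count2 : cntN 2 = 165 := by decide +kernel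
theorem count3 : cntN 3 = 440 := by decide +kernel
theorem count4 : cntN 4 = 990 := by decide +kernel
theorem count5 : cntN 5 = 1584 := by decide +kernel
theorem count6 : cntN 6 = 1320 := by decide +kernel
theorem count8 : cntN 8 = 1980 := by decide +kernel
theorem count11 : cntN 11 = 1440 := by decide +kernel
theorem count0 : cntN 0 = 0 := by decide +kernel

theorem chain_cntN (n : ℕ) :
    (Finset.univ.filter (fun g : P => g ∈ fixIn (KMask sm) [0] ∧
      Nat.beq (ordP (packL (toL (g : GolayPt → GolayPt)))) n = true)).card = cntN n := by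
  have h := chain_count (ctxMask sm) _ Cfsg.Agent.S5522.fixKS_trivial (fun L => Nat.beq (ordP (packL L)) n) [0]
    Cfsg.Agent.S5522.m11sLevels Cfsg.Agent.S5522.m11sChain_ok
  rw [h]
  have h2 := countProdP_eq _ m11s_packOK _ idL_entries (fun x => Nat.beq (ordP x) n)
  rw [packL_idL] at h2
  exact h2.symm

attribute [local irreducible] cntN

theorem pack_mul (g h : P) : packL (toL ((g * h : P) : GolayPt → GolayPt)) =
    mulP (packL (toL (g : GolayPt → GolayPt))) (packL (toL (h : GolayPt → GolayPt))) := by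
  rw [toL_mul, mulP_pack (toL_entries g) (toL_entries h) (toL_length h)]

theorem pack_eq_idP_iff (g : P) : Nat.beq (packL (toL (g : GolayPt → GolayPt))) idP = true ↔ g = 1 := by
  rw [Nat.beq_eq, ← packL_idL]
  constructor
  · intro h
    have h1 : toL (g : GolayPt → GolayPt) = toL ((1 : P) : GolayPt → GolayPt) :=
      packL_inj (toL_entries g) (toL_entries 1) (by rw [toL_length, toL_length]) (by rw [h, show toL ((1 : P) : GolayPt → GolayPt) = idL from toL_one])
    exact eq_of_codes (codes_toL g) (h1 ▸ codes_toL 1)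
  · rintro rfl
    rw [show toL ((1 : P) : GolayPt → GolayPt) = idL from toL_one]

/-- What `ordP` computes. -/
theorem ordP_spec (g : P) (h0 : ordP (packL (toL (g : GolayPt → GolayPt))) ≠ 0) :
    orderOf g = ordP (packL (toL (g : GolayPt → GolayPt))) := by
  have hL2 := pack_mul g g
  have hL3 := pack_mul (g ^ 2) g
  have hL4 := pack_mul (g ^ 2) (g ^ 2)
  have hL5 := pack_mul (g ^ 4) g
  have hL6 := pack_mul (g ^ 3) (g ^ 3)
  have hL8 := pack_mul (g ^ 4) (g ^ 4)
  have hL11 := pack_mul (g ^ 8) (g ^ 3)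
  rw [← pow_two] at hL2
  rw [← pow_succ] at hL3
  rw [← pow_add] at hL4
  rw [← pow_succ] at hL5
  rw [← pow_add] at hL6
  rw [← pow_add] at hL8
  rw [← pow_add] at hL11
  norm_num at hL3 hL4 hL5 hL6 hL8 hL11
  unfold ordP at h0 ⊢
  simp only [forceC_eq, ← hL2, ← hL3, ← hL4, ← hL5, ← hL6, ← hL8, ← hL11] at h0 ⊢
  have hiff : ∀ k : ℕ, Nat.beq (packL (toL ((g ^ k : P) : GolayPt → GolayPt))) idP = decide (g ^ k = 1) := by
    intro k
    rw [Bool.eq_iff_iff, pack_eq_idP_iff, decide_eq_true_iff]
  have hiff1 : Nat.beq (packL (toL (g : GolayPt → GolayPt))) idP = decide (g = 1) := by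
    rw [Bool.eq_iff_iff, pack_eq_idP_iff, decide_eq_true_iff]
  rw [hiff1, hiff 2, hiff 3, hiff 4, hiff 5, hiff 6, hiff 8, hiff 11] at h0 ⊢
  simp only [Bool.cond_decide] at h0 ⊢
  have prime_case : ∀ p : ℕ, p.Prime → g ^ p = 1 → g ≠ 1 → orderOf g = p := by
    intro p hp h1 h2
    haveI := Fact.mk hp
    exact orderOf_eq_prime h1 h2
  by_cases h1 : g = 1
  · simp [h1]
  rw [if_neg h1] at h0 ⊢
  by_cases h2 : g ^ 2 = 1
  · rw [if_pos h2]
    exact prime_case 2 Nat.prime_two h2 h1
  rw [if_neg h2] at h0 ⊢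
  by_cases h3 : g ^ 3 = 1
  · rw [if_pos h3]
    exact prime_case 3 Nat.prime_three h3 h1
  rw [if_neg h3] at h0 ⊢
  by_cases h4 : g ^ 4 = 1
  · rw [if_pos h4]
    haveI := Fact.mk Nat.prime_two
    exact orderOf_eq_prime_pow (p := 2) (n := 1) (by simpa using h2) (by simpa using h4)
  rw [if_neg h4] at h0 ⊢
  by_cases h5 : g ^ 5 = 1
  · rw [if_pos h5]
    exact prime_case 5 (by norm_num) h5 h1
  rw [if_neg h5] at h0 ⊢
  by_cases h6 : g ^ 6 = 1
  · rw [if_pos h6]
    have hd : orderOf g ∣ 6 := orderOf_dvd_of_pow_eq_one h6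
    have hle : orderOf g ≤ 6 := Nat.le_of_dvd (by norm_num) hd
    have hne1 : orderOf g ≠ 1 := fun h => h1 (orderOf_eq_one_iff.1 h)
    have hne2 : orderOf g ≠ 2 := fun h => h2 (h ▸ pow_orderOf_eq_one g)
    have hne3 : orderOf g ≠ 3 := fun h => h3 (h ▸ pow_orderOf_eq_one g)
    interval_cases hh : orderOf g <;> first | rfl | omega
  rw [if_neg h6] at h0 ⊢
  by_cases h8 : g ^ 8 = 1
  · rw [if_pos h8]
    haveI := Fact.mk Nat.prime_two
    exact orderOf_eq_prime_pow (p := 2) (n := 2) (by simpa using h4) (by simpa using h8)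
  rw [if_neg h8] at h0 ⊢
  by_cases h11 : g ^ 11 = 1
  · rw [if_pos h11]
    exact prime_case 11 (by norm_num) h11 h1
  rw [if_neg h11] at h0
  exact absurd rfl h0

theorem ordP_cases (x : ℕ) : ordP x = 0 ∨ ordP x = 1 ∨ ordP x = 2 ∨ ordP x = 3 ∨ ordP x = 4 ∨ ordP x = 5 ∨
    ordP x = 6 ∨ ordP x = 8 ∨ ordP x = 11 := by
  have hc : ∀ (S : ℕ → Prop) (b : Bool) (a c : ℕ), S a → S c → S (bif b then a else c) := by
    intro S b a c ha hc
    cases b
    · exact hc
    · exact ha
  let S : ℕ → Prop := fun n => n = 0 ∨ n = 1 ∨ n = 2 ∨ n = 3 ∨ n = 4 ∨ n = 5 ∨ n = 6 ∨ n = 8 ∨ n = 11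
  show S (ordP x)
  unfold ordP
  simp only [forceC_eq]
  refine hc S _ _ _ (by simp [S]) (hc S _ _ _ (by simp [S]) (hc S _ _ _ (by simp [S]) (hc S _ _ _ (by simp [S])
    (hc S _ _ _ (by simp [S]) (hc S _ _ _ (by simp [S]) (hc S _ _ _ (by simp [S]) (hc S _ _ _ (by simp [S]) (by simp [S]))))))))

theorem ordP_ne_zero {g : P} (hg : g ∈ fixIn (KMask sm) [0]) : ordP (packL (toL (g : GolayPt → GolayPt))) ≠ 0 := by
  intro h
  have hc := chain_cntN 0
  rw [count0, Finset.card_eq_zero, Finset.filter_eq_empty_iff] at hc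
  exact hc (Finset.mem_univ g) ⟨hg, by rw [h]; rfl⟩

theorem card_order_eq (n : ℕ) : Nat.card {g : ↥Cfsg.Spor.M11 // orderOf g = n} = cntN n := by
  rw [← chain_cntN n, ← Nat.card_eq_finsetCard]
  refine Nat.card_congr ⟨fun g => ⟨g.1.1, ?_⟩, fun g => ⟨⟨g.1, ?_⟩, ?_⟩, ?_, ?_⟩
  · have hg : (g.1 : P) ∈ fixIn (KMask sm) [0] := (Cfsg.Agent.S5522.mem_M11_iff _).1 g.1.2
    have h1 := ordP_spec (g.1 : P) (ordP_ne_zero hg)
    have h2 : orderOf (g.1 : P) = n := by
      rw [Subgroup.orderOf_coe]
      exact g.2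
    rw [Finset.mem_filter]
    refine ⟨Finset.mem_univ _, hg, ?_⟩
    rw [Nat.beq_eq, ← h1, h2]
  · have := (Finset.mem_filter.1 g.2).2.1
    exact (Cfsg.Agent.S5522.mem_M11_iff _).2 this
  · have h2 := (Finset.mem_filter.1 g.2).2
    have h1 := ordP_spec (g.1 : P) (ordP_ne_zero h2.1)
    rw [← Subgroup.orderOf_coe]
    show orderOf (g.1 : P) = n
    rw [h1]
    exact Nat.eq_of_beq_eq_true h2.2
  · intro g
    rfl
  · intro g
    rfl

/-- The list of the numbers of elements of a given order in `M11`. -/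
theorem card_order_mem (n : ℕ) : Nat.card {g : ↥Cfsg.Spor.M11 // orderOf g = n} ∈
    ({0, 1, 165, 440, 990, 1584, 1320, 1980, 1440} : Set ℕ) := by
  rw [card_order_eq n]
  by_cases h : n = 1 ∨ n = 2 ∨ n = 3 ∨ n = 4 ∨ n = 5 ∨ n = 6 ∨ n = 8 ∨ n = 11
  · rcases h with rfl | rfl | rfl | rfl | rfl | rfl | rfl | rfl
    · rw [count1]; simp
    · rw [count2]; simp
    · rw [count3]; simp
    · rw [count4]; simp
    · rw [count5]; simp
    · rw [count6]; simp
    · rw [count8]; simp
    · rw [count11]; simp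
  · have : cntN n = 0 := by
      rw [← chain_cntN n, Finset.card_eq_zero, Finset.filter_eq_empty_iff]
      rintro g - ⟨hg, hg2⟩
      have h2' := Nat.eq_of_beq_eq_true hg2
      apply h
      rw [← h2']
      rcases ordP_cases (packL (toL (g : GolayPt → GolayPt))) with h0 | h0 | h0 | h0 | h0 | h0 | h0 | h0 | h0
      · exact absurd h0 (ordP_ne_zero hg)
      all_goals simp [h0]
    rw [this]
    simp

end Cfsg.Agent.Lib.M11Rec
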